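import Cfsg.Agent.H396.SpA.Dat
import Cfsg.Agent.H548.SpA.LieNine
import Cfsg.Agent.PreUniq.Cases
import Cfsg.Agent.NotCT.Orders

/-!
# The simple groups for `n = 27, 28` (helper381, TEAM SPEC-ALT)

`kinds` : a simple group with all prime divisors at most 28, at most one of the primes 13, 17, 19, 23 missing: alternating
of degree at least 19, `²E₆(2)` or `Fi23`.
-/

set_option autoImplicit false

namespace Cfsg.Agent.H381.Sp

open Cfsg Cfsg.Agent.H414.LieShape Cfsg.Agent.H426.LieFam Cfsg.Agent.H436 Cfsg.Agent.H548.SpA Cfsg.Agent.H396.SpA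

theorem chk28 : rowsB [17, 19, 23] 28 23 ch26 rows26 = true := by decide +kernel

/-- the test for the orders of the sporadic groups -/
def goodB (c : ℕ) : Bool :=
  ([29, 31, 37, 41, 43, 47, 59, 67, 71].all fun v => c % v != 0) &&
    ([(13, 17), (13, 19), (13, 23), (17, 19), (17, 23), (19, 23)].all fun w => c % w.1 == 0 || c % w.2 == 0)

theorem goodB_of {c : ℕ} (hsm : ∀ q : ℕ, q.Prime → q ∣ c → q ≤ 28)
    (hm : ∀ a ∈ [13, 17, 19, 23], ∀ b ∈ [13, 17, 19, 23], a ≠ b → a ∣ c ∨ b ∣ c) : goodB c = true := by
  unfold goodB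
  rw [Bool.and_eq_true, List.all_eq_true, List.all_eq_true]
  constructor
  · intro v hv
    rw [bne_iff_ne]
    intro h0
    have hvp : v.Prime ∧ 28 < v := by
      simp only [List.mem_cons, List.not_mem_nil, or_false] at hv
      rcases hv with rfl | rfl | rfl | rfl | rfl | rfl | rfl | rfl | rfl <;> norm_num
    have := hsm v hvp.1 (Nat.dvd_of_mod_eq_zero h0)
    omega
  · intro w hw
    rw [Bool.or_eq_true, beq_iff_eq, beq_iff_eq]
    have h1 : w.1 ∈ [13, 17, 19, 23] ∧ w.2 ∈ [13, 17, 19, 23] ∧ w.1 ≠ w.2 := by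
      simp only [List.mem_cons, List.not_mem_nil, or_false] at hw
      rcases hw with rfl | rfl | rfl | rfl | rfl | rfl <;> simp
    exact (hm _ h1.1 _ h1.2.1 h1.2.2).imp Nat.mod_eq_zero_of_dvd Nat.mod_eq_zero_of_dvd

universe u

/-- **the simple groups** -/
theorem kinds {S : Type u} [Group S] [Finite S] (hk : IsKnownSimple' S) (hnc : ¬ IsMulCommutative S)
    (hsm : ∀ q : ℕ, q.Prime → q ∣ Nat.card S → q ≤ 28)
    (hm : ∀ a ∈ [13, 17, 19, 23], ∀ b ∈ [13, 17, 19, 23], a ≠ b → a ∣ Nat.card S ∨ b ∣ Nat.card S) :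
    (∃ m, 19 ≤ m ∧ Nonempty (S ≃* alternatingGroup (Fin m))) ∨
      (¬ 23 ∣ Nat.card S ∧ ∃ (K : Type) (_ : Field K) (_ : Fintype K), Fintype.card K = 4 ∧
        Nonempty (S ≃* ↥(Lie.twistedE6 K 2))) ∨ Spor.IsoFi23 S := by
  have hg := goodB_of hsm hm
  rcases Cfsg.Agent.PreUniq.known_cases hk with h | ⟨m, hm5, ⟨e⟩⟩ | ⟨r, hr, h⟩ | h | h
  · exfalso
    have h0 : (Nat.card S).Prime := h
    have := Fact.mk h0
    have hcyc : IsCyclic S := isCyclic_of_prime_card (p := Nat.card S) rfl
    exact hnc hcyc.isMulCommutative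
  · left
    refine ⟨m, ?_, ⟨e⟩⟩
    have hc : 2 * Nat.card S = m.factorial := by
      have : Nontrivial (Fin m) := Fin.nontrivial_iff_two_le.2 (by omega)
      rw [Nat.card_congr e.toEquiv, two_mul_nat_card_alternatingGroup, Nat.card_perm, Nat.card_fin]
    have key : ∀ v : ℕ, v.Prime → v ∣ Nat.card S → v ≤ m := fun v hv h => by
      rw [← hv.dvd_factorial, ← hc]
      exact h.mul_left 2
    rcases hm 19 (by simp) 23 (by simp) (by norm_num) with h1 | h1
    · exact key 19 (by norm_num) h1
    · exact (by norm_num : 19 ≤ 23).trans (key 23 (by norm_num) h1)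
  · by_cases h23 : 23 ∣ Nat.card S
    · exfalso
      have hsub : ∀ a ∈ [17, 19, 23], a ∈ [13, 17, 19, 23] := by simp
      refine lie_false chain26 chk28 (fun u hu => ?_) hr (shape_of_lie hr h) hsm
        (fun a ha b hb hab => hm a (hsub a ha) b (hsub b hb) hab) fun _ => h23
      simp only [List.mem_cons, List.not_mem_nil, or_false] at hu
      rcases hu with rfl | rfl | rfl <;> norm_num
    · right; left
      refine ⟨h23, ?_⟩
      obtain ⟨fam, f, d, N, hI, hsh⟩ := exists_fam hr h
      have hS : Sm (Nat.card S) := by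
        intro v hv hd
        have h1 := hsm v hv hd
        by_contra h2
        have h3 : v = 20 ∨ v = 21 ∨ v = 22 ∨ v = 23 ∨ v = 24 ∨ v = 25 ∨ v = 26 ∨ v = 27 ∨ v = 28 := by omega
        rcases h3 with rfl | rfl | rfl | rfl | rfl | rfl | rfl | rfl | rfl
        · exact absurd hv (by norm_num)
        · exact absurd hv (by norm_num)
        · exact absurd hv (by norm_num)
        · exact h23 hd
        · exact absurd hv (by norm_num)
        · exact absurd hv (by norm_num)
        · exact absurd hv (by norm_num)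
        · exact absurd hv (by norm_num)
        · exact absurd hv (by norm_num)
      have h13 : ∀ a, a = 13 ∨ a = 17 ∨ a = 19 → a ∣ Nat.card S := by
        intro a ha
        refine (hm a ?_ 23 (by simp) (by rintro rfl; omega)).resolve_right h23
        rcases ha with rfl | rfl | rfl <;> simp
      have h4 : Four (Nat.card S) := by
        intro u v hu hv huv
        simp only [List.mem_cons, List.not_mem_nil, or_false] at hu hv
        rcases hu with rfl | hu
        · rcases hv with rfl | hv
          · exact absurd rfl huv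
          · exact Or.inr (h13 v hv)
        · exact Or.inl (h13 u hu)
      obtain ⟨rfl, rfl, rfl⟩ := te6_of_sh hI hr hsh hS h4
      obtain ⟨K, _, _, _, hK, ⟨e⟩⟩ := hI
      rw [pow_one] at hK e
      exact ⟨K, _, _, by rw [hK]; norm_num, ⟨e⟩⟩
  · exfalso
    rw [NotCT.Orders.tits h] at hg
    exact absurd hg (by decide +kernel)
  · rcases h with h | h | h | h | h | h | h | h | h | h | h | h | h | h | h | h | h | h | h | h | h | h | h | h | h | h
    · rw [NotCT.Orders.m11 h] at hg; exact absurd hg (by decide +kernel)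
    · rw [NotCT.Orders.m12 h] at hg; exact absurd hg (by decide +kernel)
    · rw [NotCT.Orders.m22 h] at hg; exact absurd hg (by decide +kernel)
    · rw [NotCT.Orders.m23 h] at hg; exact absurd hg (by decide +kernel)
    · rw [NotCT.Orders.m24 h] at hg; exact absurd hg (by decide +kernel)
    · rw [NotCT.Orders.j1 h] at hg; exact absurd hg (by decide +kernel)
    · rw [NotCT.Orders.j2 h] at hg; exact absurd hg (by decide +kernel)
    · rw [NotCT.Orders.j3 h] at hg; exact absurd hg (by decide +kernel)
    · rw [NotCT.Orders.j4 h] at hg; exact absurd hg (by decide +kernel)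
    · rw [NotCT.Orders.co1 h] at hg; exact absurd hg (by decide +kernel)
    · rw [NotCT.Orders.co2 h] at hg; exact absurd hg (by decide +kernel)
    · rw [NotCT.Orders.co3 h] at hg; exact absurd hg (by decide +kernel)
    · rw [NotCT.Orders.mcl h] at hg; exact absurd hg (by decide +kernel)
    · rw [NotCT.Orders.hs h] at hg; exact absurd hg (by decide +kernel)
    · rw [NotCT.Orders.suz h] at hg; exact absurd hg (by decide +kernel)
    · rw [NotCT.Orders.he h] at hg; exact absurd hg (by decide +kernel)
    · rw [NotCT.Orders.ru h] at hg; exact absurd hg (by decide +kernel)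
    · rw [NotCT.Orders.on h] at hg; exact absurd hg (by decide +kernel)
    · rw [NotCT.Orders.ly h] at hg; exact absurd hg (by decide +kernel)
    · rw [NotCT.Orders.fi22 h] at hg; exact absurd hg (by decide +kernel)
    · exact Or.inr (Or.inr h)
    · rw [NotCT.Orders.fi24 h] at hg; exact absurd hg (by decide +kernel)
    · rw [NotCT.Orders.hn h] at hg; exact absurd hg (by decide +kernel)
    · rw [NotCT.Orders.th h] at hg; exact absurd hg (by decide +kernel)
    · rw [NotCT.Orders.b h] at hg; exact absurd hg (by decide +kernel)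
    · rw [NotCT.Orders.m h] at hg; exact absurd hg (by decide +kernel)

end Cfsg.Agent.H381.Sp
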